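import Mathlib

/-!
Additive endomorphisms and quadratic maps of a finite field of characteristic two are
combinations of automorphisms.
-/

set_option autoImplicit false

namespace CfsgLib.FinFieldAut

variable {F : Type*} [Field F] [Fintype F]

/-- the automorphism group of a finite field, as a fintype -/
noncomputable local instance autFintype : Fintype (F ≃+* F) := by
  haveI : Finite (F ≃+* F) :=
    Finite.of_injective (fun σ : F ≃+* F => (σ : F → F)) DFunLike.coe_injective
  exact Fintype.ofFinite _

lemma aut_linearIndependent :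
    LinearIndependent F (fun σ : F ≃+* F => ((σ : F →+* F) : F → F)) :=
  (linearIndependent_monoidHom F F).comp (fun σ : F ≃+* F => (σ : F →+* F).toMonoidHom)
    (fun σ τ h => RingEquiv.ext fun x => DFunLike.congr_fun h x)

variable [CharP F 2]

lemma addHom_eq_sum (f : F →+ F) :
    ∃ c : (F ≃+* F) → F, ∀ x : F, f x = ∑ σ : F ≃+* F, c σ * σ x := by
  classical
  letI : Algebra (ZMod 2) F := ZMod.algebra F 2
  haveI : FiniteDimensional (ZMod 2) F := Module.Finite.of_finite
  let e : (F ≃+* F) ≃ (F ≃ₐ[ZMod 2] F) :=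
    { toFun := fun σ => AlgEquiv.ofRingEquiv (f := σ) (fun z => by
        exact RingHom.congr_fun (RingHom.ext_zmod ((σ : F →+* F).comp (algebraMap (ZMod 2) F))
          (algebraMap (ZMod 2) F)) z)
      invFun := fun σ => σ.toRingEquiv
      left_inv := fun σ => by ext; rfl
      right_inv := fun σ => by ext; rfl }
  let L : (F ≃+* F) → (F →ₗ[ZMod 2] F) := fun σ => (e σ).toLinearMap
  have hL : LinearIndependent F L := by
    let φ : (F →ₗ[ZMod 2] F) →ₗ[F] (F → F) :=
      { toFun := fun g => g
        map_add' := fun _ _ => rfl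
        map_smul' := fun _ _ => rfl }
    exact LinearIndependent.of_comp φ aut_linearIndependent
  have hcard : Fintype.card (F ≃+* F) = Module.finrank F (F →ₗ[ZMod 2] F) := by
    rw [Module.finrank_linearMap_self, ← Nat.card_eq_fintype_card, Nat.card_congr e,
      IsGalois.card_aut_eq_finrank]
  have hspan := hL.span_eq_top_of_card_eq_finrank hcard
  have hf : f.toZModLinearMap 2 ∈ Submodule.span F (Set.range L) := by rw [hspan]; trivial
  obtain ⟨c, hc⟩ := Submodule.mem_span_range_iff_exists_fun F |>.1 hf
  refine ⟨c, fun x => ?_⟩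
  have := congrArg (fun g : F →ₗ[ZMod 2] F => g x) hc
  simp only [LinearMap.coe_sum, Finset.sum_apply, LinearMap.smul_apply, smul_eq_mul,
    AddMonoidHom.coe_toZModLinearMap] at this
  exact this.symm

lemma biAdd_eq_sum (B : F →+ F →+ F) :
    ∃ c : (F ≃+* F) × (F ≃+* F) → F, ∀ x y : F,
      B x y = ∑ p : (F ≃+* F) × (F ≃+* F), c p * (p.1 x * p.2 y) := by
  classical
  choose c hc using fun x => addHom_eq_sum (B x)
  have hadd : ∀ τ, ∀ x x', c (x + x') τ = c x τ + c x' τ := by
    intro τ x x'
    have h0 : ∑ σ : F ≃+* F, (c (x + x') σ - (c x σ + c x' σ)) • ((σ : F →+* F) : F → F) = 0 := by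
      funext y
      simp only [Finset.sum_apply, Pi.smul_apply, smul_eq_mul, Pi.zero_apply, sub_mul, add_mul,
        Finset.sum_sub_distrib, Finset.sum_add_distrib, RingEquiv.coe_toRingHom]
      rw [← hc, ← hc, ← hc, map_add, AddMonoidHom.add_apply, sub_self]
    exact sub_eq_zero.1 (Fintype.linearIndependent_iff.1 aut_linearIndependent _ h0 τ)
  choose d hd using fun τ => addHom_eq_sum (AddMonoidHom.mk' (fun x => c x τ) (hadd τ))
  refine ⟨fun p => d p.2 p.1, fun x y => ?_⟩
  rw [hc x, Fintype.sum_prod_type, Finset.sum_comm]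
  refine Finset.sum_congr rfl fun τ _ => ?_
  rw [show c x τ = ∑ σ, d τ σ * σ x from hd τ x, Finset.sum_mul]
  exact Finset.sum_congr rfl fun σ _ => by ring

/-- functions `x ↦ ∑ c (σ, τ) σ x τ x` -/
def IsQuadSum (q : F → F) : Prop :=
  ∃ c : (F ≃+* F) × (F ≃+* F) → F, ∀ x : F, q x = ∑ p : (F ≃+* F) × (F ≃+* F), c p * (p.1 x * p.2 x)

omit [CharP F 2] in
lemma IsQuadSum.add' {q q' : F → F} (h : IsQuadSum q) (h' : IsQuadSum q') :
    IsQuadSum (fun x => q x + q' x) := by
  obtain ⟨c, hc⟩ := h
  obtain ⟨c', hc'⟩ := h'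
  refine ⟨c + c', fun x => ?_⟩
  simp only [Pi.add_apply, add_mul, Finset.sum_add_distrib]
  rw [hc x, hc' x]

lemma isQuadSum_mul (f g : F →+ F) : IsQuadSum (fun x => f x * g x) := by
  classical
  obtain ⟨c, hc⟩ := biAdd_eq_sum
    ((AddMonoidHom.mul (R := F)).comp f |>.flip.comp g |>.flip)
  exact ⟨c, fun x => hc x x⟩

lemma isQuadSum_of_quadratic {q : F → F}
    (hq : ∀ x y z : F, q (x + y + z) + q (x + y) + q (x + z) + q (y + z) + q x + q y + q z = 0) :
    IsQuadSum q := by
  classical
  letI : Algebra (ZMod 2) F := ZMod.algebra F 2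
  haveI : FiniteDimensional (ZMod 2) F := Module.Finite.of_finite
  have h2 : ∀ a : F, a + a = 0 := CharTwo.add_self_eq_zero
  have q0 : q 0 = 0 := by
    have := hq 0 0 0
    simpa [h2] using this
  let B : F → F → F := fun x y => q (x + y) + q x + q y
  have hB : ∀ x y z, B (x + y) z = B x z + B y z := by
    intro x y z
    rw [← sub_eq_zero, CharTwo.sub_eq_add]
    rw [← hq x y z]
    simp only [B]
    linear_combination h2 (q z)
  let b := Module.finBasis (ZMod 2) F
  let crd : Fin (Module.finrank (ZMod 2) F) → (F →+ F) := fun i =>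
    ((algebraMap (ZMod 2) F : ZMod 2 →+ F)).comp (b.coord i).toAddMonoidHom
  have hidem : ∀ i x, crd i x * crd i x = crd i x := by
    intro i x
    show algebraMap (ZMod 2) F (b.coord i x) * algebraMap (ZMod 2) F (b.coord i x) = _
    rw [← map_mul, show b.coord i x * b.coord i x = b.coord i x from
      (by decide : ∀ z : ZMod 2, z * z = z) _]
    rfl
  let u : Finset (Fin (Module.finrank (ZMod 2) F)) → (F →+ F) := fun T =>
    ∑ i ∈ T, (AddMonoidHom.mulRight (b i)).comp (crd i)
  have key : ∀ T, IsQuadSum (fun x => q (u T x)) := by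
    intro T
    induction T using Finset.induction with
    | empty => exact ⟨0, fun x => by simp [u, q0]⟩
    | insert i T hi ih =>
      let g : F →+ F := (AddMonoidHom.mk' (fun v => B v (b i)) (fun v w => hB v w (b i))).comp (u T)
      have h := (ih.add' (isQuadSum_mul ((AddMonoidHom.mulRight (q (b i))).comp (crd i)) (crd i))).add'
        (isQuadSum_mul g (crd i))
      convert h using 1
      funext x
      have hu : u (insert i T) x = crd i x * b i + u T x := by
        simp [u, Finset.sum_insert hi]
      have hcases : crd i x = 0 ∨ crd i x = 1 := by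
        have : crd i x * (crd i x - 1) = 0 := by rw [mul_sub, hidem, mul_one, sub_self]
        rcases mul_eq_zero.1 this with h | h
        · exact Or.inl h
        · exact Or.inr (sub_eq_zero.1 h)
      rw [hu]
      show _ = q (u T x) + crd i x * q (b i) * crd i x + g x * crd i x
      rcases hcases with h0 | h1
      · simp [h0]
      · rw [h1]
        simp only [g, AddMonoidHom.comp_apply, AddMonoidHom.mk'_apply, B, one_mul, mul_one]
        rw [add_comm (b i) (u T x)]
        linear_combination -(h2 (q (b i))) - h2 (q (u T x))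
  have hu : ∀ x, u Finset.univ x = x := by
    intro x
    conv_rhs => rw [← b.sum_repr x]
    simp [u, crd, Algebra.smul_def]
  obtain ⟨c, hc⟩ := key Finset.univ
  refine ⟨c, fun x => ?_⟩
  have h := hc x
  simp only [hu x] at h
  exact h

end CfsgLib.FinFieldAut
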